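import Cfsg.Agent.Lib.CT.FusionInvolution
import Cfsg.Agent.Lib.Recog.ThreeCubed.Arith
import Cfsg.Agent.Lib.CT.Kernel

/-!
Integer class functions on a subgroup controlling the fusion of their supports.
-/

set_option autoImplicit false
set_option linter.unusedSectionVars false

namespace Cfsg.Agent.TISetup

universe u

open ThreeCubed

variable {G : Type u} [Group G] {H : Subgroup G}

/-- An integral function usable for induction. -/
structure Good (H : Subgroup G) (f : H → ℤ) : Prop where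
  cls : ∀ x g : H, f (g * x * g⁻¹) = f x
  gen : IsGeneralizedCharacter H (fun h => (f h : ℂ))
  sq : ∀ h : H, h * h = 1 → f h = 0

/-- Fusion of the elements of order above two is controlled by `H` on the given support. -/
def Controls (H : Subgroup G) (D : H → Prop) : Prop :=
  ∀ h, D h → ∀ g : G, g * (h : G) * g⁻¹ ∈ H → g ∈ H

/-- The degree of an irreducible character. -/
noncomputable def cdeg (χ : IrrCharacter G) : ℤ := (CT.deg (χ : G → ℂ) : ℤ)

/-- The value of an irreducible character at an involution. -/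
noncomputable def cval (u : G) (χ : IrrCharacter G) : ℤ := ⌊((χ : G → ℂ) u).re⌋

variable [Fintype G]

theorem cdeg_eq (χ : IrrCharacter G) : (χ : G → ℂ) 1 = (cdeg χ : ℂ) := by
  rw [cdeg, CT.deg_eq (CT.isCharacter_of_isIrr χ.2)]
  simp

theorem cdeg_pos (χ : IrrCharacter G) : 0 < cdeg χ := by
  simpa [cdeg] using CT.deg_pos χ.2

theorem cdeg_triv : cdeg (CT.trivIrr G) = 1 := by
  have := cdeg_eq (CT.trivIrr G)
  simp at this
  exact_mod_cast this.symm

theorem cval_triv (u : G) : cval u (CT.trivIrr G) = 1 := by simp [cval]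

theorem cval_eq {u : G} (hu : u * u = 1) (χ : IrrCharacter G) :
    (χ : G → ℂ) u = (cval u χ : ℂ) := by
  obtain ⟨z, hz⟩ := CT.exists_int_value_of_sq hu χ
  simp [cval, hz]

/-- An irreducible character of degree one is a homomorphism. -/
theorem exists_hom (χ : IrrCharacter G) (h : cdeg χ = 1) :
    ∃ lam : G →* ℂˣ, (χ : G → ℂ) = fun g => (lam g : ℂ) :=
  CT.exists_hom_of_degree_one (CT.isCharacter_of_isIrr χ.2) (by rw [cdeg_eq, h]; simp)

variable [Fintype H]

/-- Multiplicity of an irreducible character in an induced function. -/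
noncomputable def coef (f : H → ℤ) (χ : IrrCharacter G) : ℤ :=
  ⌊(classInner (indFun H (fun h => (f h : ℂ))) χ).re⌋

variable {f f' : H → ℤ}

theorem Good.cf (hf : Good H f) : IsClassFunction H (fun h => (f h : ℂ)) :=
  fun x g => by simp [hf.cls]

theorem coef_spec (hf : Good H f) (χ : IrrCharacter G) :
    classInner (indFun H (fun h => (f h : ℂ))) χ = (coef f χ : ℂ) := by
  obtain ⟨m, hm⟩ := CT.isGen_inner_int (CT.isGen_indFun H hf.gen) (CT.isGen_of_isIrr χ.2)
  rw [coef, hm]
  simp

theorem classInner_int (f f' : H → ℤ) :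
    classInner (fun h => (f h : ℂ)) (fun h => (f' h : ℂ)) =
      ((∑ h : H, f h * f' h : ℤ) : ℂ) / (Nat.card H : ℂ) := by
  simp only [classInner, map_intCast]
  push_cast
  rw [div_eq_mul_inv, mul_comm]

theorem coef_dot (hD : Controls H (fun h => h * h ≠ 1 ∧ (f h ≠ 0 ∨ f' h ≠ 0)))
    (hf : Good H f) (hf' : Good H f') :
    (Nat.card H : ℤ) * ∑ χ : IrrCharacter G, coef f χ * coef f' χ = ∑ h : H, f h * f' h := by
  have e := CT.classInner_eq_sum (f := indFun H (fun h => (f h : ℂ)))
    (CT.isClassFunction_indFun H (fun h => (f' h : ℂ)))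
  have hz : ∀ {k : H → ℤ}, Good H k → (k = f ∨ k = f') → ∀ h : H,
      ¬ (h * h ≠ 1 ∧ (f h ≠ 0 ∨ f' h ≠ 0)) → ((k h : ℤ) : ℂ) = 0 := by
    intro k hk hor h hh
    by_cases h2 : h * h = 1
    · simp [hk.sq h h2]
    · simp only [ne_eq, h2, not_false_eq_true, true_and, not_or, not_not] at hh
      rcases hor with rfl | rfl <;> simp [hh.1, hh.2]
  rw [CT.classInner_indFun_fusion hf'.cf _ hD (hz hf (Or.inl rfl)) (hz hf' (Or.inr rfl))
    (by simp), classInner_int] at e
  simp only [coef_spec hf, coef_spec hf', map_intCast] at e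
  have hc : (Nat.card H : ℂ) ≠ 0 := Nat.cast_ne_zero.mpr Nat.card_pos.ne'
  rw [div_eq_iff hc] at e
  have : ((((Nat.card H : ℤ) * ∑ χ : IrrCharacter G, coef f χ * coef f' χ : ℤ)) : ℂ) =
      ((∑ h : H, f h * f' h : ℤ) : ℂ) := by
    rw [e]
    push_cast
    ring
  exact_mod_cast this

theorem coef_lin (hf : Good H f) (χ : IrrCharacter G) (L : H → ℤ)
    (hL : ∀ h : H, (χ : G → ℂ) h = (L h : ℂ)) :
    (Nat.card H : ℤ) * coef f χ = ∑ h : H, f h * L h := by
  have e := CT.frobenius_reciprocity H (fun h => (f h : ℂ)) (CT.isClassFunction_of_isIrr χ.2)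
  have hc : (Nat.card H : ℂ) ≠ 0 := Nat.cast_ne_zero.mpr Nat.card_pos.ne'
  rw [coef_spec hf, show (fun h : H => (χ : G → ℂ) h) = fun h => (L h : ℂ) from funext hL,
    classInner_int, eq_div_iff hc] at e
  have : ((((Nat.card H : ℤ) * coef f χ : ℤ)) : ℂ) = ((∑ h : H, f h * L h : ℤ) : ℂ) := by
    rw [← e]
    push_cast
    ring
  exact_mod_cast this

theorem coef_eval (hf : Good H f) {g : G} (hg : g * g = 1) :
    ∑ χ : IrrCharacter G, (coef f χ : ℂ) * (χ : G → ℂ) g = 0 := by
  have h0 : indFun H (fun h => (f h : ℂ)) g = 0 := by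
    refine CT.indFun_eq_zero_of_forall fun x hx => ?_
    rw [hf.sq, Int.cast_zero]
    refine Subtype.ext ?_
    show x⁻¹ * g * x * (x⁻¹ * g * x) = 1
    rw [show x⁻¹ * g * x * (x⁻¹ * g * x) = x⁻¹ * (g * g) * x by group, hg, mul_one, inv_mul_cancel]
  rw [← h0]
  conv_rhs => rw [CT.classFunction_eq_sum (CT.isClassFunction_indFun H (fun h => (f h : ℂ)))]
  simp [coef_spec hf]

theorem coef_deg (hf : Good H f) : ∑ χ : IrrCharacter G, coef f χ * cdeg χ = 0 := by
  have := coef_eval hf (g := 1) (one_mul 1)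
  simp only [cdeg_eq] at this
  exact_mod_cast this

theorem coef_val (hf : Good H f) {u : G} (hu : u * u = 1) :
    ∑ χ : IrrCharacter G, coef f χ * cval u χ = 0 := by
  have := coef_eval hf hu
  simp only [cval_eq hu] at this
  exact_mod_cast this

/-- The factor in the pair counting identity. -/
noncomputable def kappa (u : G) : ℚ :=
  (Nat.card {x : G // IsConj u x} : ℚ) * (Nat.card {x : G // IsConj u x} : ℚ) / (Nat.card G : ℚ)

theorem kappa_pos (u : G) : 0 < kappa u := by
  have : Nonempty {x : G // IsConj u x} := ⟨⟨u, IsConj.refl u⟩⟩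
  have h1 : (0 : ℚ) < (Nat.card {x : G // IsConj u x} : ℚ) := Nat.cast_pos.mpr Nat.card_pos
  have h2 : (0 : ℚ) < (Nat.card G : ℚ) := Nat.cast_pos.mpr Nat.card_pos
  unfold kappa
  positivity

open Classical in
theorem pair_identity (hD : Controls H (fun h => f h ≠ 0)) (hf : Good H f) {u : G}
    (hu : u * u = 1) (P : H → Prop) [DecidablePred P] (hP : ∀ h : H, IsConj u (h : G) ↔ P h) :
    (Nat.card H : ℚ) * (kappa u * Arith.Lsum cdeg (cval u) (coef f)) =
      ((∑ y ∈ Finset.univ.filter P, ∑ z ∈ Finset.univ.filter P, f (y * z) : ℤ) : ℚ) := by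
  have e := CT.involution_pair_sum (H := H) hu (θ := fun h => (f h : ℂ))
    (fun h hh => hD h fun a => hh (by simp [a]))
  replace e := e.trans (show _ = (Nat.card H : ℂ)⁻¹ *
      ((∑ y ∈ Finset.univ.filter P, ∑ z ∈ Finset.univ.filter P, f (y * z) : ℤ) : ℂ) by
    have hfil : Finset.univ.filter (fun y : H => IsConj u (y : G)) = Finset.univ.filter P :=
      Finset.filter_congr fun y _ => hP y
    rw [hfil]
    push_cast
    rfl)
  simp only [coef_spec hf, cdeg_eq, cval_eq hu] at e
  have hc : (Nat.card H : ℂ) ≠ 0 := Nat.cast_ne_zero.mpr Nat.card_pos.ne'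
  generalize (∑ y ∈ Finset.univ.filter P, ∑ z ∈ Finset.univ.filter P, f (y * z)) = S at e ⊢
  have : (((Nat.card H : ℚ) * (kappa u * Arith.Lsum cdeg (cval u) (coef f)) : ℚ) : ℂ) =
      (((S : ℤ) : ℚ) : ℂ) := by
    simp only [kappa, Arith.Lsum]
    push_cast
    simp only [pow_two]
    rw [e]
    field_simp
  exact_mod_cast this

end Cfsg.Agent.TISetup
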